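import Mathlib

/-!
# Closure of ordered products under multiplication
-/

namespace Groth.Agent.Deform.OrdMult

variable {G : Type*} [Group G] {A : Type*} [AddCommGroup A]

/-- Splitting off the first non-trivial factor of an ordered product. -/
theorem prod_eq_mul_update : ∀ {N : ℕ} (g : Fin N → G) (i : Fin N), (∀ k, k < i → g k = 1) →
    (List.ofFn g).prod = g i * (List.ofFn (Function.update g i 1)).prod := by
  intro N
  induction N with
  | zero => exact fun g i => i.elim0
  | succ n ih =>
    intro g i
    refine Fin.cases (fun _ => ?_) (fun i' hg => ?_) i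
    · rw [List.ofFn_succ, List.ofFn_succ, List.prod_cons, List.prod_cons, Function.update_self, _root_.one_mul]
      congr 3
    · rw [List.ofFn_succ, List.ofFn_succ, List.prod_cons, List.prod_cons,
        Function.update_of_ne (Fin.succ_ne_zero i').symm, hg 0 (Fin.succ_pos i'), _root_.one_mul, _root_.one_mul,
        ih (fun k => g k.succ) i' (fun k hk => hg _ (Fin.succ_lt_succ_iff.2 hk))]
      congr 3
      funext k
      by_cases hk : k = i'
      · subst hk; simp
      · rw [Function.update_of_ne hk, Function.update_of_ne (fun e => hk (Fin.succ_injective _ e))]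

variable {N : ℕ} (gam : Fin N → A → G)

/-- Products of the factors of index at least `i`. -/
def tail (i : ℕ) : Set G :=
  {g | ∃ v : Fin N → A, (∀ k : Fin N, (k : ℕ) < i → v k = 0) ∧ g = (List.ofFn fun k => gam k (v k)).prod}

variable {gam}

theorem map_zero' (hadd : ∀ k a b, gam k (a + b) = gam k a * gam k b) (k : Fin N) : gam k 0 = 1 := by
  have := hadd k 0 0
  rw [add_zero] at this
  exact (mul_eq_left (a := gam k 0)).1 this.symm

theorem tail_closed (hadd : ∀ k a b, gam k (a + b) = gam k a * gam k b)
    (hconj : ∀ i j, i < j → ∀ a c, ∃ z : Fin N → A, (∀ l, l < i → z l = 0) ∧ z i = a ∧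
      gam j c * gam i a * (gam j c)⁻¹ = (List.ofFn fun k => gam k (z k)).prod) :
    ∀ d i, i + d = N → (1 : G) ∈ tail gam i ∧ ∀ g h, g ∈ tail gam i → h ∈ tail gam i → g * h ∈ tail gam i := by
  have h0 := map_zero' hadd
  have hone : ∀ i, (1 : G) ∈ tail gam i := fun i => ⟨fun _ => 0, fun _ _ => rfl,
    (List.prod_eq_one fun x hx => by obtain ⟨k, rfl⟩ := List.mem_ofFn.1 hx; exact h0 k).symm⟩
  intro d
  induction d with
  | zero =>
    intro i hi
    refine ⟨hone i, ?_⟩
    rintro g h ⟨v, hv, rfl⟩ ⟨v', hv', rfl⟩
    have e : ∀ w : Fin N → A, (∀ k : Fin N, (k : ℕ) < i → w k = 0) → (List.ofFn fun k => gam k (w k)).prod = 1 :=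
      fun w hw => List.prod_eq_one fun x hx => by
        obtain ⟨k, rfl⟩ := List.mem_ofFn.1 hx
        rw [hw k (by omega)]; exact h0 k
    rw [e v hv, e v' hv', _root_.one_mul]; exact hone i
  | succ d ih =>
    intro i hi
    refine ⟨hone i, ?_⟩
    obtain ⟨-, hmul⟩ := ih (i + 1) (by omega)
    let ii : Fin N := ⟨i, by omega⟩
    have hsplit : ∀ v : Fin N → A, (∀ k : Fin N, (k : ℕ) < i → v k = 0) →
        ∃ x ∈ tail gam (i + 1), (List.ofFn fun k => gam k (v k)).prod = gam ii (v ii) * x := by
      intro v hv
      refine ⟨_, ⟨Function.update v ii 0, fun k hk => ?_, rfl⟩, ?_⟩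
      · by_cases h : k = ii
        · subst h; simp
        · rw [Function.update_of_ne h]
          exact hv k (by have : (k : ℕ) ≠ i := fun e => h (Fin.ext e); omega)
      · rw [prod_eq_mul_update (fun k => gam k (v k)) ii (fun k hk => by rw [hv k hk]; exact h0 k)]
        congr 3
        funext k
        by_cases h : k = ii
        · subst h; simp [h0]
        · rw [Function.update_of_ne h, Function.update_of_ne h]
    have hinv : ∀ a, gam ii (-a) = (gam ii a)⁻¹ := fun a =>
      eq_inv_of_mul_eq_one_left (by rw [← hadd, neg_add_cancel, h0])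
    have hgen : ∀ (a : A) (j : Fin N) (c : A), ii < j → gam ii (-a) * gam j c * gam ii a ∈ tail gam (i + 1) := by
      intro a j c hj
      obtain ⟨z, hz, hza, he⟩ := hconj ii j hj a c
      obtain ⟨x, hx, hx'⟩ := hsplit z (fun k hk => hz k hk)
      have h1 : gam j c ∈ tail gam (i + 1) := by
        refine ⟨Pi.single j c, fun k hk => Pi.single_eq_of_ne (fun e => ?_) _, ?_⟩
        · subst e; have : i < (k : ℕ) := hj; omega
        · rw [prod_eq_mul_update (fun k => gam k ((Pi.single j c : Fin N → A) k)) j
            (fun k hk => by rw [Pi.single_eq_of_ne hk.ne]; exact h0 k), Pi.single_eq_same]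
          refine (mul_eq_left.2 (List.prod_eq_one fun x hx => ?_)).symm
          obtain ⟨k, rfl⟩ := List.mem_ofFn.1 hx
          by_cases h : k = j
          · subst h; simp
          · rw [Function.update_of_ne h, Pi.single_eq_of_ne h]; exact h0 k
      have h2 : gam ii (-a) * gam j c * gam ii a = x * gam j c := by
        rw [hx', hza, mul_inv_eq_iff_eq_mul] at he
        rw [_root_.mul_assoc, he, hinv]; group
      rw [h2]; exact hmul _ _ hx h1
    have hnorm : ∀ a, ∀ x ∈ tail gam (i + 1), gam ii (-a) * x * gam ii a ∈ tail gam (i + 1) := by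
      intro a x ⟨v, hv, hx⟩
      let M : Submonoid G :=
        { carrier := {y | gam ii (-a) * y * gam ii a ∈ tail gam (i + 1)}
          one_mem' := by simpa [hinv] using hone (i + 1)
          mul_mem' := fun {y y'} hy hy' => by
            show gam ii (-a) * (y * y') * gam ii a ∈ tail gam (i + 1)
            have := hmul _ _ hy hy'
            rw [hinv] at this ⊢
            convert this using 1
            group }
      rw [hx]
      refine list_prod_mem (S := M) fun y hy => ?_
      obtain ⟨k, rfl⟩ := List.mem_ofFn.1 hy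
      show gam ii (-a) * gam k (v k) * gam ii a ∈ tail gam (i + 1)
      by_cases hk : (k : ℕ) < i + 1
      · rw [hv k hk, h0, hinv]; simpa using hone (i + 1)
      · exact hgen a k _ (show i < (k : ℕ) by omega)
    rintro g h ⟨v, hv, rfl⟩ ⟨v', hv', rfl⟩
    obtain ⟨x, hx, ex⟩ := hsplit v hv
    obtain ⟨y, hy, ey⟩ := hsplit v' hv'
    obtain ⟨w, hw, ew⟩ := hmul _ _ (hnorm (v' ii) x hx) hy
    rw [ex, ey]
    refine ⟨Function.update w ii (v ii + v' ii), fun k hk => ?_, ?_⟩
    · rw [Function.update_of_ne (fun e => by subst e; exact Nat.lt_irrefl _ hk)]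
      exact hw k (by omega)
    · rw [prod_eq_mul_update (fun k => gam k (Function.update w ii (v ii + v' ii) k)) ii
        (fun k hk => by rw [Function.update_of_ne hk.ne, hw k (Nat.lt_succ_of_lt hk)]; exact h0 k)]
      have e3 : (Function.update (fun k => gam k (Function.update w ii (v ii + v' ii) k)) ii 1) = fun k => gam k (w k) := by
        funext k
        by_cases h : k = ii
        · subst h; rw [Function.update_self, hw ii (Nat.lt_succ_self i), h0]
        · rw [Function.update_of_ne h, Function.update_of_ne h]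
      rw [e3, Function.update_self, ← ew, hadd, hinv]
      group

/-- Ordered products are closed under multiplication. -/
theorem exists_prod_mul (hadd : ∀ k a b, gam k (a + b) = gam k a * gam k b)
    (hconj : ∀ i j, i < j → ∀ a c, ∃ z : Fin N → A, (∀ l, l < i → z l = 0) ∧ z i = a ∧
      gam j c * gam i a * (gam j c)⁻¹ = (List.ofFn fun k => gam k (z k)).prod) (v v' : Fin N → A) :
    ∃ w : Fin N → A, (List.ofFn fun k => gam k (v k)).prod * (List.ofFn fun k => gam k (v' k)).prod =
      (List.ofFn fun k => gam k (w k)).prod := by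
  obtain ⟨w, -, hw⟩ := (tail_closed hadd hconj N 0 (by omega)).2 _ _ ⟨v, by simp, rfl⟩ ⟨v', by simp, rfl⟩
  exact ⟨w, hw⟩

end Groth.Agent.Deform.OrdMult
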